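import Cfsg.Agent.Lib.Spor.HSType.Cert.H123.Part0

/-!
An excluded extension of the centralizer, case 1 2 3: the assembled checks.
-/

set_option autoImplicit false

namespace CfsgLib.Spor.HSType.Cert.H123

open CfsgLib.Spor.TC

theorem steps_ok : cert.SStepsOK 0 1675 :=
  steps0

set_option maxRecDepth 100000 in
theorem trace : cert.sTraceOK 1675 target 0xd1600d16 = true := by decide +kernel

end CfsgLib.Spor.HSType.Cert.H123
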